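import Groth.Agent.S5774
import Groth.Agent.CMFlatLib.Group
import Groth.Agent.CommAlgDim.CM

/-! A flat local algebra over an artinian local ring with Cohen–Macaulay closed fibre and finite residue
extension has a quotient which is finite free over the base. -/

set_option autoImplicit false
set_option linter.style.haveILetI false
universe u

open IsLocalRing RingTheory.Sequence

namespace StrictRatLib

theorem dim_le_zero_of_add_eq {a : WithBot ℕ∞} {n : ℕ} (h : a + (n : WithBot ℕ∞) = (n : ℕ)) : a ≤ 0 := by
  induction a using WithBot.recBotCoe with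
  | bot => exact bot_le
  | coe a =>
    induction a using ENat.recTopCoe with
    | top =>
      have h' : (⊤ : ℕ∞) + n = n := by exact_mod_cast h
      simp at h'
    | coe m =>
      have h' : m + n = n := by exact_mod_cast h
      obtain rfl : m = 0 := by omega
      exact le_rfl

theorem exists_flat_quotient (A L : Type u) [CommRing A] [IsArtinianRing A] [IsLocalRing A] [CommRing L]
    [IsLocalRing L] [IsNoetherianRing L] [Algebra A L] [IsLocalHom (algebraMap A L)] [Module.Flat A L]
    (hCM : LocCoh.IsCohenMacaulayLocalRing (L ⧸ (maximalIdeal A).map (algebraMap A L)))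
    [Module.Finite A (IsLocalRing.ResidueField L)] :
    ∃ J : Ideal L, J ≤ maximalIdeal L ∧ Module.Finite A (L ⧸ J) ∧ Module.Free A (L ⧸ J) := by
  let I : Ideal L := (maximalIdeal A).map (algebraMap A L)
  let F := L ⧸ I
  haveI : LocCoh.IsCohenMacaulayLocalRing F := hCM
  obtain ⟨rs, hreg, hdim⟩ := (CMFlatLib.isCohenMacaulayLocalRing_iff_isCM F).1 hCM
  have hrs : ∀ r ∈ rs, r ∈ maximalIdeal F := fun r hr => by
    by_contra hu
    apply hreg.top_ne_smul
    have : Ideal.ofList rs = ⊤ := Ideal.eq_top_of_isUnit_mem _ (Ideal.subset_span hr)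
      (notMem_maximalIdeal.1 hu)
    rw [this, Submodule.top_smul]
  let g : F → L := Function.surjInv Ideal.Quotient.mk_surjective
  have hg : ∀ r, Ideal.Quotient.mk I (g r) = r := Function.surjInv_eq _
  let fs : List L := rs.map g
  have hmap : fs.map (algebraMap L F) = rs := by
    simp only [fs, List.map_map]
    conv_rhs => rw [← List.map_id rs]
    exact List.map_congr_left fun r _ => hg r
  let J : Ideal L := Ideal.ofList fs
  have hJm : J ≤ maximalIdeal L := Ideal.span_le.2 fun f hf => by
    obtain ⟨r, hr, rfl⟩ := List.mem_map.1 hf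
    intro hu
    exact hrs r hr (by rw [← hg r]; exact hu.map _)
  have hF : RingTheory.Sequence.IsWeaklyRegular F fs := by
    rw [← isWeaklyRegular_map_algebraMap_iff F F fs, hmap]
    exact hreg.toIsWeaklyRegular
  have hI : ((maximalIdeal A).map (algebraMap A L) • (⊤ : Submodule L L)) = I :=
    (Ideal.mul_top _)
  have hflat : Module.Flat A (L ⧸ (J • (⊤ : Submodule L L))) := by
    have h := (Groth.Agent.S5774.result A L L fs
      (((Submodule.quotEquivOfEq _ _ hI).isWeaklyRegular_congr fs).2 hF)).2 fs.length le_rfl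
    rwa [List.take_length] at h
  have hflatB : Module.Flat A (L ⧸ J) :=
    Module.Flat.of_linearEquiv (((Submodule.quotEquivOfEq (J • (⊤ : Submodule L L)) J
      (Ideal.mul_top J)).restrictScalars A).symm)
  haveI : Nontrivial (L ⧸ J) := Ideal.Quotient.nontrivial_iff.2 fun h =>
    (maximalIdeal.isMaximal L).ne_top (top_le_iff.1 (h ▸ hJm))
  haveI : IsLocalRing (L ⧸ J) := IsLocalRing.of_surjective' (Ideal.Quotient.mk J) Ideal.Quotient.mk_surjective
  have h0 : Ring.KrullDimLE 0 (F ⧸ Ideal.ofList rs) := by
    rw [Ring.krullDimLE_iff]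
    exact dim_le_zero_of_add_eq ((ringKrullDim_add_length_eq_ringKrullDim_of_isRegular rs hreg).trans hdim)
  have hprime : ∀ P : Ideal L, P.IsPrime → J ≤ P → P = maximalIdeal L := by
    intro P hP hJP
    have hIP : I ≤ P := Ideal.map_le_iff_le_comap.2 fun a ha => by
      obtain ⟨n, hn⟩ := IsArtinianRing.isNilpotent_jacobson_bot (R := A)
      have : a ^ n = 0 := by
        have h1 : a ^ n ∈ (Ideal.jacobson (⊥ : Ideal A)) ^ n :=
          Ideal.pow_mem_pow (by rwa [IsLocalRing.jacobson_eq_maximalIdeal _ bot_ne_top]) n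
        rw [hn] at h1
        exact h1
      exact hP.mem_of_pow_mem n (by rw [← map_pow, this, map_zero]; exact P.zero_mem)
    haveI hP' : (P.map (Ideal.Quotient.mk I)).IsPrime :=
      Ideal.map_isPrime_of_surjective Ideal.Quotient.mk_surjective (by rwa [Ideal.mk_ker])
    have hle : Ideal.ofList rs ≤ P.map (Ideal.Quotient.mk I) := by
      rw [← hmap]
      rw [← Ideal.map_ofList]
      exact Ideal.map_mono hJP
    haveI hP'' : ((P.map (Ideal.Quotient.mk I)).map (Ideal.Quotient.mk (Ideal.ofList rs))).IsPrime :=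
      Ideal.map_isPrime_of_surjective Ideal.Quotient.mk_surjective (by rwa [Ideal.mk_ker])
    have hmax := (Ring.krullDimLE_zero_iff.1 h0) _ hP''
    have e1 := Ideal.comap_isMaximal_of_surjective (Ideal.Quotient.mk (Ideal.ofList rs))
      Ideal.Quotient.mk_surjective (K := (P.map (Ideal.Quotient.mk I)).map (Ideal.Quotient.mk (Ideal.ofList rs)))
    rw [Ideal.comap_map_of_surjective _ Ideal.Quotient.mk_surjective, ← RingHom.ker_eq_comap_bot, Ideal.mk_ker,
      sup_eq_left.2 hle] at e1
    have e2 := Ideal.comap_isMaximal_of_surjective (Ideal.Quotient.mk I) Ideal.Quotient.mk_surjective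
      (K := P.map (Ideal.Quotient.mk I))
    rw [Ideal.comap_map_of_surjective _ Ideal.Quotient.mk_surjective, ← RingHom.ker_eq_comap_bot, Ideal.mk_ker,
      sup_eq_left.2 hIP] at e2
    exact IsLocalRing.eq_maximalIdeal e2
  haveI : IsArtinianRing (L ⧸ J) := by
    rw [isArtinianRing_iff_krullDimLE_zero, Ring.krullDimLE_zero_iff]
    intro P hP
    have h2 := hprime (P.comap (Ideal.Quotient.mk J)) inferInstance fun z hz => by
      show Ideal.Quotient.mk J z ∈ P
      rw [Ideal.Quotient.eq_zero_iff_mem.2 hz]; exact P.zero_mem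
    haveI : (P.comap (Ideal.Quotient.mk J)).IsMaximal := h2 ▸ maximalIdeal.isMaximal L
    rw [← Ideal.map_comap_of_surjective _ Ideal.Quotient.mk_surjective P]
    exact (Ideal.map_eq_top_or_isMaximal_of_surjective _ Ideal.Quotient.mk_surjective
      inferInstance).resolve_left (by
        rw [Ideal.map_comap_of_surjective _ Ideal.Quotient.mk_surjective P]; exact hP.ne_top)
  haveI : Module.Finite A ((L ⧸ J) ⧸ Ring.jacobson (L ⧸ J)) := by
    rw [IsLocalRing.ringJacobson_eq_maximalIdeal]
    let q : L →ₐ[A] (L ⧸ J) ⧸ maximalIdeal (L ⧸ J) :=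
      (Ideal.Quotient.mkₐ A _).comp (Ideal.Quotient.mkₐ A J)
    have hq : maximalIdeal L ≤ RingHom.ker q := fun z hz => by
      refine Ideal.Quotient.eq_zero_iff_mem.2 fun hu => hz ?_
      haveI : IsLocalHom (Ideal.Quotient.mk J) := IsLocalHom.of_surjective _ Ideal.Quotient.mk_surjective
      exact (isUnit_map_iff (Ideal.Quotient.mk J) z).1 hu
    haveI : Module.Finite A (L ⧸ maximalIdeal L) := ‹Module.Finite A (IsLocalRing.ResidueField L)›
    exact Module.Finite.of_surjective
      (Ideal.Quotient.liftₐ (maximalIdeal L) q fun z hz => hq hz).toLinearMap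
      (Ideal.Quotient.lift_surjective_of_surjective _ (fun z hz => hq hz)
        ((Ideal.Quotient.mk_surjective (I := maximalIdeal (L ⧸ J))).comp Ideal.Quotient.mk_surjective))
  haveI : Module.Finite A (L ⧸ J) := IsSemiprimaryRing.finite_of_isArtinian A (L ⧸ J) (L ⧸ J)
  exact ⟨J, hJm, inferInstance, Module.free_of_flat_of_isLocalRing⟩

end StrictRatLib
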