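import Mathlib

/-! A finite free local extension of an artinian local ring over which all the field-valued points of a
given finite free algebra lift. -/

set_option autoImplicit false
universe u

open TensorProduct IsLocalRing

namespace StrictRatLib

variable {A : Type u} [CommRing A] [IsArtinianRing A] [IsLocalRing A]

theorem exists_lift_list (Ω : Type u) [Field Ω] [Algebra A Ω] (B : Type u) [CommRing B] [Algebra A B] [Module.Finite A B] [Module.Free A B]
    (l : List (B →ₐ[A] Ω)) :
    ∃ (A' : Type u) (_ : CommRing A') (_ : IsLocalRing A') (_ : Algebra A A') (_ : Module.Finite A A')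
      (_ : Module.Free A A') (χ : A' →ₐ[A] Ω), ∀ σ ∈ l, ∃ f : B →ₐ[A] A', χ.comp f = σ := by
  induction l with
  | nil => exact ⟨A, inferInstance, inferInstance, inferInstance, inferInstance, inferInstance,
      Algebra.ofId A _, by simp⟩
  | cons σ l ih =>
    obtain ⟨A', i1, i2, i3, i4, i5, χ, hχ⟩ := ih
    let ψ : A' ⊗[A] B →ₐ[A] Ω := Algebra.TensorProduct.lift χ σ fun _ _ => Commute.all _ _
    let Q : Ideal (A' ⊗[A] B) := RingHom.ker ψ
    haveI hQ : Q.IsPrime := RingHom.ker_isPrime _
    haveI : IsArtinianRing (A' ⊗[A] B) := IsArtinianRing.of_finite A _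
    let L := Localization.AtPrime Q
    have hsurj : Function.Surjective (algebraMap (A' ⊗[A] B) L) :=
      IsArtinianRing.localization_surjective Q.primeCompl L
    haveI : Module.Finite A L :=
      Module.Finite.of_surjective (IsScalarTower.toAlgHom A (A' ⊗[A] B) L).toLinearMap hsurj
    haveI : Module.Flat (A' ⊗[A] B) L := IsLocalization.flat L Q.primeCompl
    haveI : Module.Flat A L := Module.Flat.trans A (A' ⊗[A] B) L
    haveI : Module.Free A L := Module.free_of_flat_of_isLocalRing
    have hu : ∀ y : Q.primeCompl, IsUnit (ψ y) := fun y => isUnit_iff_ne_zero.2 fun h => y.2 h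
    let χ' : L →ₐ[A] Ω := IsLocalization.liftAlgHom (M := Q.primeCompl) hu
    have hχ' : χ'.comp (IsScalarTower.toAlgHom A (A' ⊗[A] B) L) = ψ := by
      apply AlgHom.ext
      intro t
      exact IsLocalization.lift_eq _ t
    refine ⟨L, inferInstance, inferInstance, inferInstance, inferInstance, inferInstance, χ', ?_⟩
    intro τ hτ
    rcases List.mem_cons.1 hτ with rfl | hτ
    · refine ⟨(IsScalarTower.toAlgHom A (A' ⊗[A] B) L).comp Algebra.TensorProduct.includeRight, ?_⟩
      rw [← AlgHom.comp_assoc, hχ']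
      exact Algebra.TensorProduct.lift_comp_includeRight _ _ fun _ _ => Commute.all _ _
    · obtain ⟨f, hf⟩ := hχ τ hτ
      refine ⟨((IsScalarTower.toAlgHom A (A' ⊗[A] B) L).comp Algebra.TensorProduct.includeLeft).comp f, ?_⟩
      rw [← AlgHom.comp_assoc, ← AlgHom.comp_assoc, hχ', ← hf]
      congr 1
      exact Algebra.TensorProduct.lift_comp_includeLeft _ _ fun _ _ => Commute.all _ _

theorem exists_splitting (A : Type u) [CommRing A] [IsArtinianRing A] [IsLocalRing A] (B : Type u) [CommRing B]
    [Algebra A B] [Module.Finite A B] [Module.Free A B] :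
    ∃ (A' : Type u) (_ : CommRing A') (_ : IsLocalRing A') (_ : Algebra A A') (_ : Module.Finite A A')
      (_ : Module.Free A A'), ∀ (K : Type u) [Field K] [IsAlgClosed K] (χ' : A' →+* K) (σ' : B →+* K),
        σ'.comp (algebraMap A B) = χ'.comp (algebraMap A A') →
          ∃ f : B →ₐ[A] A', χ'.comp f.toRingHom = σ' := by
  let Ω₀ := AlgebraicClosure (IsLocalRing.ResidueField A)
  haveI : Finite (B →ₐ[A] Ω₀) := inferInstance
  haveI := Fintype.ofFinite (B →ₐ[A] Ω₀)
  obtain ⟨A', i1, i2, i3, i4, i5, χ, hχ⟩ := exists_lift_list (A := A) Ω₀ B (Finset.univ : Finset (B →ₐ[A] Ω₀)).toList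
  refine ⟨A', i1, i2, i3, i4, i5, ?_⟩
  intro K _ _ χ' σ' hσ'
  haveI : IsArtinianRing A' := IsArtinianRing.of_finite A A'
  have hker : ∀ {F : Type u} [Field F] (φ : A' →+* F) (a : A'), a ∈ maximalIdeal A' → φ a = 0 := by
    intro F _ φ a ha
    haveI := RingHom.ker_isPrime φ
    have := IsLocalRing.eq_maximalIdeal (IsArtinianRing.isPrime_iff_isMaximal (RingHom.ker φ) |>.1 inferInstance)
    rw [← this] at ha
    exact ha
  let k' := IsLocalRing.ResidueField A'
  letI : Algebra k' Ω₀ := (Ideal.Quotient.lift (maximalIdeal A') χ.toRingHom (hker _)).toAlgebra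
  letI : Algebra k' K := (Ideal.Quotient.lift (maximalIdeal A') χ' (hker _)).toAlgebra
  haveI : IsScalarTower A k' Ω₀ := IsScalarTower.of_algebraMap_eq fun a => (χ.commutes a).symm
  haveI : Algebra.IsIntegral A (IsLocalRing.ResidueField A) :=
    Algebra.IsIntegral.of_finite A _
  haveI : Algebra.IsIntegral A Ω₀ := Algebra.IsIntegral.trans (IsLocalRing.ResidueField A)
  haveI : Algebra.IsAlgebraic k' Ω₀ := ⟨fun z => ((Algebra.IsIntegral.isIntegral (R := A) z).tower_top).isAlgebraic⟩
  let e : Ω₀ →ₐ[k'] K := IsAlgClosed.lift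
  have he : ∀ a, e (χ a) = χ' a := fun a => e.commutes (Ideal.Quotient.mk _ a)
  letI : Algebra Ω₀ K := e.toRingHom.toAlgebra
  letI : Algebra A K := (χ'.comp (algebraMap A A')).toAlgebra
  haveI : IsScalarTower A Ω₀ K := IsScalarTower.of_algebraMap_eq fun a => by
    show χ' (algebraMap A A' a) = e (algebraMap A Ω₀ a)
    rw [← he, χ.commutes]
  let σK : B →ₐ[A] K := { σ' with commutes' := fun a => RingHom.congr_fun hσ' a }
  have hrange : ∀ b, ∃ z : Ω₀, e z = σ' b := fun b => by
    have h1 : IsIntegral A (σK b) := ((Algebra.IsIntegral.isIntegral (R := A) b)).map σK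
    have h2 : IsIntegral Ω₀ (σK b) := h1.tower_top
    exact minpoly.mem_range_of_degree_eq_one _ _
      (IsAlgClosed.degree_eq_one_of_irreducible _ (minpoly.irreducible h2))
  choose g hg using hrange
  have einj : Function.Injective e := e.toRingHom.injective
  let σ : B →ₐ[A] Ω₀ :=
    { toFun := g
      map_one' := einj (by rw [hg, map_one, map_one])
      map_mul' := fun x y => einj (by rw [hg, map_mul σ', map_mul, hg, hg])
      map_zero' := einj (by rw [hg, map_zero, map_zero])
      map_add' := fun x y => einj (by rw [hg, map_add σ', map_add, hg, hg])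
      commutes' := fun a => einj (by
        rw [hg, ← χ.commutes, he]
        exact RingHom.congr_fun hσ' a) }
  obtain ⟨f, hf⟩ := hχ σ (Finset.mem_toList.2 (Finset.mem_univ _))
  refine ⟨f, RingHom.ext fun b => ?_⟩
  show χ' (f b) = σ' b
  rw [← he, ← hg b]
  exact congrArg e (AlgHom.congr_fun hf b)

end StrictRatLib
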